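import Cfsg.Agent.H600.RIM.ExcDefs

/-!
# S4816, box EXC: the action on the components is the natural action of `A_m`, `m ≥ 9` (helper886)

* `coatom` : a point stabiliser is maximal;
* `partM` : `PartM` from `Pow`.
-/

set_option autoImplicit false

open MulAction Equiv Equiv.Perm Cfsg.Agent.H229.NX

namespace Cfsg.Agent.H886.RIM

universe u

section hom

variable {G Ω : Type*} [Group G] [MulAction G Ω]

/-- the action as a homomorphism to `Perm (Fin n)` -/
theorem exists_hom (G : Type*) (Ω : Type*) [Group G] [MulAction G Ω] [Finite Ω] :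
    ∃ (n : ℕ) (e : Ω ≃ Fin n) (φ : G →* Perm (Fin n)), ∀ g ω, φ g (e ω) = e (g • ω) := by
  obtain ⟨n, ⟨e⟩⟩ := Finite.exists_equiv_fin Ω
  refine ⟨n, e, (e.permCongrHom : Perm Ω →* Perm (Fin n)).comp (toPermHom G Ω), ?_⟩
  intro g x
  show e ((toPerm g : Perm Ω) (e.symm (e x))) = _
  rw [e.symm_apply_apply]
  rfl

variable {n : ℕ} {e : Ω ≃ Fin n} {φ : G →* Perm (Fin n)} (hφ : ∀ g ω, φ g (e ω) = e (g • ω))

include hφ

theorem prim_range (h : IsPreprimitive G Ω) : IsPreprimitive φ.range (Fin n) := by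
  let f : Ω →ₑ[φ.rangeRestrict] Fin n :=
    { toFun := e
      map_smul' := by
        intro g x
        show e (g • x) = φ g (e x)
        exact (hφ g x).symm }
  exact IsPreprimitive.of_surjective (f := f) e.surjective

theorem ker_ne_top [IsPretransitive G Ω] [Nontrivial Ω] : φ.ker ≠ ⊤ := by
  intro h
  obtain ⟨x, y, hxy⟩ := exists_pair_ne Ω
  obtain ⟨g, hg⟩ := exists_smul_eq G x y
  have h1 : g ∈ φ.ker := by rw [h]; trivial
  have h2 := hφ g x
  rw [MonoidHom.mem_ker.1 h1, hg] at h2
  exact hxy (e.injective h2)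

theorem colStab_comap {C : Type*} (c : Fin n → C) :
    colStab G (fun ω => c (e ω)) = (colStab φ.range c).comap φ.rangeRestrict := by
  ext g
  rw [Subgroup.mem_comap, mem_colStab, mem_colStab]
  constructor
  · intro h i
    obtain ⟨ω, rfl⟩ := e.surjective i
    have h1 := h ω
    rw [← hφ] at h1
    exact h1
  · intro h ω
    have h1 := h (e ω)
    show c (e (g • ω)) = c (e ω)
    rw [← hφ]
    exact h1

theorem index_colStab_comap {C : Type*} (c : Fin n → C) :
    (colStab G (fun ω => c (e ω))).index = (colStab φ.range c).index := by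
  rw [colStab_comap hφ, Subgroup.index_comap_of_surjective _ φ.rangeRestrict_surjective]

end hom

/-- **the point stabilisers are maximal** -/
theorem coatom (P : Pow) {G Ω : Type*} [Group G] [Finite G] [MulAction G Ω] [IsPretransitive G Ω] [Nontrivial Ω]
    (hN : ∀ N : Subgroup G, N.Normal → (∀ g : G, (∀ ω : Ω, g • ω = ω) → g ∈ N) → N ≠ ⊤ → 5 ∣ N.index)
    (hc : ∀ c : Ω → Bool, ¬ 5 ∣ (colStab G c).index) (ω₀ : Ω) : IsCoatom (stabilizer G ω₀) := by
  classical
  have hst : stabilizer G ω₀ ≠ ⊤ := by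
    intro h
    obtain ⟨ω₁, h01⟩ := exists_ne ω₀
    obtain ⟨g, hg⟩ := exists_smul_eq G ω₀ ω₁
    have h1 : g ∈ stabilizer G ω₀ := by rw [h]; trivial
    exact h01 (hg.symm.trans (mem_stabilizer_iff.1 h1))
  obtain ⟨M, hM, hle⟩ := (IsCoatomic.eq_top_or_exists_le_coatom (stabilizer G ω₀)).resolve_left hst
  rcases eq_or_lt_of_le hle with heq | hlt
  · rw [heq]; exact hM
  exfalso
  obtain ⟨k, hkM, hkS⟩ := SetLike.exists_of_lt hlt
  have hnt : Nontrivial (G ⧸ M) := by
    obtain ⟨g, hg⟩ : ∃ g : G, g ∉ M := by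
      by_contra hcon
      push Not at hcon
      exact hM.1 (eq_top_iff.2 fun g _ => hcon g)
    refine ⟨((1 : G) : G ⧸ M), ((g : G) : G ⧸ M), ?_⟩
    intro h
    have := QuotientGroup.eq.1 h
    rw [inv_one, one_mul] at this
    exact hg this
  have hprim : IsPreprimitive G (G ⧸ M) := by
    rw [← isCoatom_stabilizer_iff_preprimitive G ((1 : G) : G ⧸ M), stabilizer_quotient]
    exact hM
  obtain ⟨n, e, φ, hφ⟩ := exists_hom G (G ⧸ M)
  -- the equivariant map
  have hch : ∀ ω : Ω, ∃ g : G, g • ω₀ = ω := fun ω => exists_smul_eq G ω₀ ω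
  choose s hs using hch
  obtain ⟨π, hπd⟩ : ∃ π : Ω → G ⧸ M, ∀ ω, π ω = ((s ω : G) : G ⧸ M) := ⟨_, fun _ => rfl⟩
  have hπ : ∀ (g : G) (ω : Ω), π (g • ω) = g • π ω := by
    intro g ω
    rw [hπd, hπd]
    show _ = ((g * s ω : G) : G ⧸ M)
    apply QuotientGroup.eq.2
    apply hle
    rw [mem_stabilizer_iff, mul_smul, mul_smul, hs ω, inv_smul_eq_iff, hs]
  have hπ0 : π ω₀ = ((1 : G) : G ⧸ M) := by
    rw [hπd]
    apply QuotientGroup.eq.2
    apply hle
    rw [mem_stabilizer_iff, mul_one, inv_smul_eq_iff, hs]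
  have hsurj : ∀ x : G ⧸ M, ∃ ω : Ω, π ω = x := by
    intro x
    refine QuotientGroup.induction_on x ?_
    intro g
    refine ⟨g • ω₀, ?_⟩
    rw [hπ, hπ0]
    show ((g * 1 : G) : G ⧸ M) = g
    rw [mul_one]
  have hother : ∀ ω : Ω, ∃ ω' : Ω, ω' ≠ ω ∧ π ω' = π ω := by
    intro ω
    refine ⟨(s ω * k) • ω₀, ?_, ?_⟩
    · intro h
      apply hkS
      have h1 : s ω • k • ω₀ = s ω • ω₀ := by rw [← mul_smul, h, hs]
      exact mem_stabilizer_iff.2 (smul_left_cancel _ h1)
    · rw [hπ, hπ0, hπd]
      show ((s ω * k * 1 : G) : G ⧸ M) = s ω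
      apply QuotientGroup.eq.2
      have h1 : (s ω * k * 1)⁻¹ * s ω = k⁻¹ := by group
      rw [h1]
      exact M.inv_mem hkM
  choose r hr using hsurj
  have hker : φ.ker ≠ ⊤ := ker_ne_top hφ
  have hcard : 5 ∣ Nat.card φ.range := by
    have h1 := hN φ.ker inferInstance (by
      intro g hg
      rw [MonoidHom.mem_ker]
      ext i
      obtain ⟨x, rfl⟩ := e.surjective i
      rw [hφ, ← hr x, ← hπ, hg, Perm.one_apply]) hker
    rwa [Subgroup.index_ker] at h1
  obtain ⟨c, hcc⟩ := label_prim P n φ.range (prim_range hφ hprim) 5 (by norm_num) hcard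
  rw [← index_colStab_comap hφ] at hcc
  obtain ⟨d, hd⟩ : ∃ d : Ω → Bool, ∀ ω, d ω = (if c (e (π ω)) = 0 then false else if c (e (π ω)) = 2 then true else
    decide (ω = r (π ω))) := ⟨_, fun _ => rfl⟩
  have t0 : ∀ x, c (e x) = 0 ↔ ∀ ω, π ω = x → d ω = false := by
    intro x
    constructor
    · intro h ω hω
      rw [hd, hω, if_pos h]
    · intro h
      by_contra h0
      have h1 := h (r x) (hr x)
      rw [hd, hr, if_neg h0] at h1
      split_ifs at h1
      simp at h1
  have t2 : ∀ x, c (e x) = 2 ↔ ∀ ω, π ω = x → d ω = true := by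
    intro x
    constructor
    · intro h ω hω
      rw [hd, hω, if_neg (by rw [h]; decide), if_pos h]
    · intro h
      by_contra h0
      obtain ⟨ω', h1, h2⟩ := hother (r x)
      have h3 := h ω' (h2.trans (hr x))
      rw [hd, h2.trans (hr x), if_neg h0] at h3
      split_ifs at h3
      simp [h1] at h3
  have hle2 : colStab G d ≤ colStab G (fun x : G ⧸ M => c (e x)) := by
    intro g hg
    rw [mem_colStab] at hg ⊢
    have key : ∀ (x : G ⧸ M) (b : Bool), (∀ ω, π ω = g • x → d ω = b) ↔ (∀ ω, π ω = x → d ω = b) := by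
      intro x b
      constructor
      · intro h ω hω
        rw [← hg ω]
        exact h _ (by rw [hπ, hω])
      · intro h ω hω
        have h1 := h (g⁻¹ • ω) (by rw [hπ, hω, inv_smul_smul])
        rw [← hg, smul_inv_smul] at h1
        exact h1
    intro x
    have k0 := (t0 (g • x)).trans ((key x false).trans (t0 x).symm)
    have k2 := (t2 (g • x)).trans ((key x true).trans (t2 x).symm)
    show c (e (g • x)) = c (e x)
    generalize c (e (g • x)) = a at k0 k2
    generalize c (e x) = b at k0 k2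
    revert a b
    decide
  exact hc d (hcc.trans (Subgroup.index_dvd_of_le hle2))

/-- the colouring by the first four points -/
def four (n : ℕ) : Fin n → Bool := fun i => decide ((i : ℕ) < 4)

theorem index_four {n : ℕ} (hn : 4 ≤ n) : (colStab (Perm (Fin n)) (four n)).index = n.choose 4 := by
  classical
  have h1 := DomMulAct.stabilizer_card (α := Fin n) (ι := Bool) (four n)
  have h2 : Nat.card (colStab (Perm (Fin n)) (four n)) = Fintype.card {g : Perm (Fin n) // (four n) ∘ g = four n} := by
    rw [← Nat.card_eq_fintype_card]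
    refine Nat.card_congr (Equiv.subtypeEquivRight ?_)
    intro g
    constructor
    · intro h
      funext i
      exact h i
    · intro h i
      exact congrFun h i
  have e1 : Fintype.card {a // four n a = true} = 4 := by
    rw [Fintype.card_subtype]
    have : (Finset.univ.filter fun a => four n a = true) = Finset.univ.filter (fun a : Fin n => (a : ℕ) < 4) := by
      ext a
      simp [four]
    rw [this, Fin.card_filter_val_lt]
    omega
  have e2 : Fintype.card {a // four n a = false} = n - 4 := by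
    have hsum : ∑ i : Bool, Fintype.card {a // four n a = i} = n := by
      rw [← Fintype.card_sigma, Fintype.card_congr (Equiv.sigmaFiberEquiv (four n)), Fintype.card_fin]
    rw [Fintype.sum_bool, e1] at hsum
    omega
  rw [Fintype.prod_bool, e1, e2] at h1
  have h3 := Subgroup.index_mul_card (colStab (Perm (Fin n)) (four n))
  rw [h2, h1, Nat.card_perm, Nat.card_fin, ← Nat.choose_mul_factorial_mul_factorial hn, mul_assoc] at h3
  exact Nat.eq_of_mul_eq_mul_right (by positivity) h3

theorem range_alternating (P : Pow) {G Ω : Type*} [Group G] [Finite G] [MulAction G Ω] [Finite Ω] [IsPretransitive G Ω]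
    [Nontrivial Ω]
    (hN : ∀ N : Subgroup G, N.Normal → (∀ g : G, (∀ ω : Ω, g • ω = ω) → g ∈ N) → N ≠ ⊤ → 5 ∣ N.index)
    (hc : ∀ c : Ω → Bool, ¬ 5 ∣ (colStab G c).index) :
    ∃ (m : ℕ) (e : Ω ≃ Fin m) (φ : G →* Equiv.Perm (Fin m)), 9 ≤ m ∧ φ.range = alternatingGroup (Fin m) ∧
      ∀ g ω, φ g (e ω) = e (g • ω) := by
  classical
  obtain ⟨ω₀, -⟩ := exists_pair_ne Ω
  have hprim : IsPreprimitive G Ω := (isCoatom_stabilizer_iff_preprimitive G ω₀).1 (coatom P hN hc ω₀)
  obtain ⟨m, e, φ, hφ⟩ := exists_hom G Ω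
  have hk : ∀ g : G, (∀ ω : Ω, g • ω = ω) → φ g = 1 := by
    intro g hg
    ext i
    obtain ⟨x, rfl⟩ := e.surjective i
    rw [hφ, hg, Perm.one_apply]
  have hcard : 5 ∣ Nat.card φ.range := by
    have h1 := hN φ.ker inferInstance (fun g hg => MonoidHom.mem_ker.2 (hk g hg)) (ker_ne_top hφ)
    rwa [Subgroup.index_ker] at h1
  have hA : alternatingGroup (Fin m) ≤ φ.range := by
    rcases P m φ.range (prim_range hφ hprim) 5 (by norm_num) hcard (by
      intro s
      rw [← index_colStab_set φ.range s 0 1 (by decide)]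
      have h2 := hc (fun ω => decide (e ω ∈ s))
      have h3 := index_colStab_comap hφ (C := Bool) (fun i => decide (i ∈ s))
      have h4 : colStab φ.range (fun i => decide (i ∈ s)) = colStab φ.range (fun i => if i ∈ s then (0 : Fin 3) else 1) := by
        ext g
        rw [mem_colStab, mem_colStab]
        refine forall_congr' fun i => ?_
        by_cases h5 : g • i ∈ s <;> by_cases h6 : i ∈ s <;> simp [h5, h6]
      rw [h3, h4] at h2
      convert h2) with h | ⟨-, h, -⟩ | ⟨-, h, -⟩
    · exact h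
    · exact absurd h (by norm_num)
    · exact absurd h (by norm_num)
  have hm5 : 5 ≤ m := by
    have h2 : 5 ∣ m.factorial := by
      have h3 := φ.range.card_subgroup_dvd_card
      rw [Nat.card_perm, Nat.card_fin] at h3
      exact hcard.trans h3
    exact (Nat.Prime.dvd_factorial (by norm_num)).1 h2
  have hnt : Nontrivial (Fin m) := Fin.nontrivial_iff_two_le.2 (by omega)
  have hR : φ.range = alternatingGroup (Fin m) := by
    refine le_antisymm ?_ hA
    have h1 : (alternatingGroup (Fin m)).comap φ = ⊤ := by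
      by_contra hne
      have h2 := hN _ inferInstance (fun g hg => by
        rw [Subgroup.mem_comap, hk g hg]
        exact one_mem _) hne
      have h3 : ((alternatingGroup (Fin m)).comap φ).index ∣ 2 := by
        rw [Subgroup.index_comap, ← alternatingGroup.index_eq_two (α := Fin m)]
        exact Subgroup.relIndex_dvd_index_of_normal _ _
      have h4 := Nat.le_of_dvd (by norm_num) (h2.trans h3)
      omega
    rintro _ ⟨g, rfl⟩
    have h2 : g ∈ (alternatingGroup (Fin m)).comap φ := by rw [h1]; trivial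
    exact h2
  refine ⟨m, e, φ, ?_, hR, hφ⟩
  by_contra h9
  have h1 := hc (fun ω => four m (e ω))
  rw [index_colStab_comap hφ, index_of_alternating φ.range hA (four m)
    (Or.inr ⟨swap ⟨0, by omega⟩ ⟨1, by omega⟩, sign_swap (by simp), by
      intro i
      by_cases h0 : i = ⟨0, by omega⟩
      · rw [h0, swap_apply_left]
        simp [four]
      · by_cases h2 : i = ⟨1, by omega⟩
        · rw [h2, swap_apply_right]
          simp [four]
        · rw [swap_apply_of_ne_of_ne h0 h2]⟩), index_four (by omega)] at h1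
  apply h1
  have h3 : m = 5 ∨ m = 6 ∨ m = 7 ∨ m = 8 := by omega
  rcases h3 with rfl | rfl | rfl | rfl <;> decide

/-- **`PartM`** -/
theorem partM (P : Pow) : Cfsg.Agent.H600.RIM.Exc.PartM.{u} := fun hN hc => range_alternating P hN hc

end Cfsg.Agent.H886.RIM
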